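/-
The monomial subgroup of a Chevalley group is the subgroup N of its root-subgroup setup, and the
scalars by which the diagonal subgroup acts on the root elements.
-/
import Cfsg.Agent.Lib.Chev.BN

set_option autoImplicit false

namespace Cfsg.Agent.Twisted

open Cfsg.Lie Matrix Chev BNSetup

variable {F : Type*} [Field F] {D : ChevalleyDatum} (hG : Good D)
include hG

theorem ne'_one_mem_N {r : ℕ} (hr : r < D.nroots) : ne' hG r (1 : F) ∈ (data hG F).N := by
  refine hG.root_induction (P := fun r => ne' hG r (1 : F) ∈ (data hG F).N) ?_ ?_ hr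
  · intro i hi
    exact RootBN.Data.nn_mem_N (D := data hG F) ⟨i, hi⟩
  · intro i hi s hs ih
    obtain ⟨e, he2, -, hn⟩ := exists_conj hG (F := F) hi hs
    have he0 : e ≠ 0 := fun h => by simp [h] at he2
    have hs' := hG.reflectRoot_lt hi hs
    have hi' : ne' hG (D.simple i) (1 : F) ∈ (data hG F).N := RootBN.Data.nn_mem_N (D := data hG F) ⟨i, hi⟩
    have h1 := Subgroup.mul_mem _ (Subgroup.mul_mem _ hi' ih) (Subgroup.inv_mem _ hi')
    rw [hn, mul_one, ne'_eq_he_mul hG hs'] at h1
    have h2 : he hG (D.reflectRoot i s) e ∈ (data hG F).N :=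
      RootBN.Data.H_le_N (D := data hG F) (he_mem_H hG hs' he0)
    simpa using Subgroup.mul_mem _ (Subgroup.inv_mem _ h2) h1

theorem data_N : (data hG F).N = D.monomialSubgroup F := by
  refine le_antisymm ?_ (sup_le (RootBN.Data.H_le_N (D := data hG F)) ?_)
  · rw [RootBN.Data.N, Subgroup.closure_le]
    rintro g (hg | ⟨i, rfl⟩)
    · exact Subgroup.mem_sup_left hg
    · exact Subgroup.mem_sup_right
        (Subgroup.subset_closure ⟨_, hG.simple_lt i.2, coe_ne' hG _ _⟩)
  · rw [Subgroup.closure_le]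
    rintro g ⟨r, hr, hg⟩
    obtain rfl : g = ne' hG r 1 := Units.ext (hg.trans (coe_ne' hG r 1).symm)
    exact ne'_one_mem_N hG hr

variable {tabs simps : List ℕ} (hf : Facts D tabs simps)
include hf

/-- A diagonal element multiplies the parameter of a root element by a scalar read off its entries. -/
theorem hdiag_conj_xe {h : GL D.Idx F} (hh : h ∈ D.diagonalSubgroup F) {χ : ℕ → F}
    (hχ : (h : Matrix D.Idx D.Idx F) = hdiag D χ) {r : ℕ} (hr : r < D.nroots) (t : F) :
    h * xe hG r t * h⁻¹ = xe hG r ((χ (D.neg r))⁻¹ * t) := by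
  obtain ⟨u, hu⟩ := (mem_rootSubgroup hG hr).1
    (normalisesAll_H hG hh r hr _ ((mem_rootSubgroup hG hr).2 ⟨t, rfl⟩))
  rw [hu]
  obtain ⟨i, hi⟩ := exists_coroot_ne_zero (F := F) hf hr
  have e := mul_inv_eq_iff_eq_mul.1 hu
  have e' := congrArg (fun g : GL D.Idx F => (g : Matrix D.Idx D.Idx F) (Sum.inl i)
    (Sum.inr ⟨D.neg r, hG.neg_lt hr⟩)) e
  simp only [Units.val_mul, coe_xe, hχ, hdiag, Matrix.diagonal_mul, Matrix.mul_diagonal, Sum.elim_inl,
    Sum.elim_inr, one_mul, x_entry_inl hr (hG.neg_lt hr), if_neg (hG.neg_ne hr), if_true] at e'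
  rw [mul_assoc] at e'
  have e2 := mul_left_cancel₀ hi e'
  have hne : χ (D.neg r) ≠ 0 := by
    intro h0
    have hd : IsUnit (Matrix.det (h : Matrix D.Idx D.Idx F)) :=
      (Matrix.isUnit_iff_isUnit_det _).1 (Units.isUnit h)
    rw [hχ, hdiag, Matrix.det_diagonal, isUnit_iff_ne_zero] at hd
    exact hd (Finset.prod_eq_zero (Finset.mem_univ (Sum.inr ⟨D.neg r, hG.neg_lt hr⟩ : D.Idx)) (by simpa using h0))
  congr 1
  rw [e2]
  field_simp

end Cfsg.Agent.Twisted
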