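/-
The entries of the root elements of a Chevalley datum as integer polynomials in the parameter, and
integer evaluation of words in root elements (for kernel computations independent of the field).
-/
import Cfsg.Agent.Lib.Chev.Basic

set_option autoImplicit false

namespace Cfsg.Agent.Twisted

open Cfsg.Lie Matrix Chev

/-- The terms `(degree, coefficient)` of the entry of `x_r(t)` at the positions `(i, j)`. -/
def pTerms (D : ChevalleyDatum) (r i j : ℕ) : List (ℕ × ℤ) :=
  if j < D.rank then
    if i < D.rank then (if i = j then [(0, 1)] else [])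
    else if i - D.rank = r then [(1, - (D.cartanSR.getD j #[]).getD r 0)] else []
  else
    if j - D.rank = r then (if i = j then [(0, 1)] else [])
    else if j - D.rank = D.negIdx.getD r 0 then
      if i < D.rank then [(1, (D.coroot.getD r #[]).getD i 0)]
      else if i = j then [(0, 1)] else if i - D.rank = r then [(2, -1)] else []
    else
      if i < D.rank then []
      else (if i = j then [(0, 1)] else []) ++ D.chainCoeff r (j - D.rank) (i - D.rank)

/-- The value of a list of terms. -/
def evalT {F : Type*} [Field F] (L : List (ℕ × ℤ)) (t : F) : F :=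
  (L.map fun p => (p.2 : F) * t ^ p.1).sum

theorem evalT_append {F : Type*} [Field F] (L L' : List (ℕ × ℤ)) (t : F) :
    evalT (L ++ L') t = evalT L t + evalT L' t := by
  simp [evalT]

theorem x_apply {D : ChevalleyDatum} {F : Type*} [Field F] {r : ℕ} (hr : r < D.nroots) (t : F)
    (a b : D.Idx) : D.x F r t a b = evalT (pTerms D r (idxNat a) (idxNat b)) t := by
  rw [ChevalleyDatum.x, dif_pos hr, ChevalleyDatum.xMat, Matrix.of_apply]
  rcases b with j | s
  · rcases a with i | u
    · have hi := i.2
      have hj := j.2
      by_cases h : i = j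
      · subst h; simp [pTerms, idxNat, evalT]
      · have h' : i.val ≠ j.val := fun e => h (Fin.ext e)
        simp [pTerms, idxNat, evalT, h, h']
    · have hj := j.2
      by_cases h : u = (⟨r, hr⟩ : Fin D.nroots)
      · subst h; simp [pTerms, idxNat, evalT]
      · have h' : u.val ≠ r := fun e => h (Fin.ext e)
        simp [pTerms, idxNat, evalT, h, h']
  · by_cases h1 : s = (⟨r, hr⟩ : Fin D.nroots)
    · subst h1
      rcases a with i | u
      · have hi := i.2
        have : i.val ≠ D.rank + r := by omega
        simp [pTerms, idxNat, evalT, this]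
      · by_cases h : u = (⟨r, hr⟩ : Fin D.nroots)
        · subst h; simp [pTerms, idxNat, evalT]
        · have h' : u.val ≠ r := fun e => h (Fin.ext e)
          simp [pTerms, idxNat, evalT, h, h']
    · have h1' : s.val ≠ r := fun e => h1 (Fin.ext e)
      by_cases h2 : s.val = D.negIdx.getD r 0
      · rcases a with i | u
        · have hi := i.2
          simp [pTerms, idxNat, evalT, h1, h1', ← h2]
        · by_cases h : u = s
          · subst h; simp [pTerms, idxNat, evalT, h1, h1', ← h2]
          · have h' : u.val ≠ s.val := fun e => h (Fin.ext e)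
            by_cases h3 : u = (⟨r, hr⟩ : Fin D.nroots)
            · subst h3
              simp [pTerms, idxNat, evalT, h1, h1', ← h2, h, h']
            · have h3' : u.val ≠ r := fun e => h3 (Fin.ext e)
              simp [pTerms, idxNat, evalT, h1, h1', ← h2, h, h', h3, h3']
      · rcases a with i | u
        · have hi := i.2
          have h2' : ¬ s.val = D.negIdx[r]?.getD 0 := by rwa [← Array.getD_eq_getD_getElem?]
          simp [pTerms, idxNat, evalT, h1', h2']
        · simp only [pTerms, idxNat, Nat.add_sub_cancel_left, evalT_append, h1, h1', h2, if_neg,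
            not_false_eq_true, Nat.not_lt.2 (Nat.le_add_right _ _), add_right_inj, ← Fin.ext_iff,
            if_false]
          by_cases h : u = s
          · subst h; simp [evalT]
          · simp [evalT, h]

/-- The coefficient of a degree in a list of terms. -/
def coeffT (L : List (ℕ × ℤ)) (k : ℕ) : ℤ :=
  (L.map fun p => if p.1 = k then p.2 else 0).sum

theorem evalT_eq_sum {F : Type*} [Field F] (L : List (ℕ × ℤ)) (t : F) {n : ℕ}
    (h : ∀ p ∈ L, p.1 < n) :
    evalT L t = ∑ k ∈ Finset.range n, (coeffT L k : F) * t ^ k := by
  induction L with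
  | nil => simp [evalT, coeffT]
  | cons p L ih =>
    have hp : p.1 < n := h p List.mem_cons_self
    have ih' := ih fun q hq => h q (List.mem_cons_of_mem _ hq)
    rw [show evalT (p :: L) t = (p.2 : F) * t ^ p.1 + evalT L t by simp [evalT], ih']
    simp only [coeffT, List.map_cons, List.sum_cons, Int.cast_add, add_mul, Finset.sum_add_distrib,
      add_left_inj]
    rw [Finset.sum_eq_single p.1]
    · simp
    · intro b _ hb; simp [Ne.symm hb]
    · intro hn; exact absurd (Finset.mem_range.2 hp) hn

/-- The value of a list of terms at an integer. -/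
def evalZ (L : List (ℕ × ℤ)) (t : ℤ) : ℤ := (L.map fun p => p.2 * t ^ p.1).sum

theorem cast_evalZ {F : Type*} [Field F] (L : List (ℕ × ℤ)) (t : ℤ) :
    ((evalZ L t : ℤ) : F) = evalT L (t : F) := by
  induction L with
  | nil => simp [evalZ, evalT]
  | cons p L ih =>
    rw [show evalZ (p :: L) t = p.2 * t ^ p.1 + evalZ L t by simp [evalZ],
      show evalT (p :: L) (t : F) = (p.2 : F) * (t : F) ^ p.1 + evalT L (t : F) by simp [evalT],
      Int.cast_add, ih]
    simp

/-- An integer vector read as a vector over the field. -/
def vecF (D : ChevalleyDatum) (F : Type*) [Field F] (v : List ℤ) : D.Idx → F :=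
  fun k => ((v.getD (idxNat k) 0 : ℤ) : F)

/-- `x_r(t)` applied to an integer vector. -/
def applyX (D : ChevalleyDatum) (r : ℕ) (t : ℤ) (v : List ℤ) : List ℤ :=
  (List.range (D.rank + D.nroots)).map fun i =>
    ((List.range (D.rank + D.nroots)).map fun j =>
      if v.getD j 0 = 0 then 0 else evalZ (pTerms D r i j) t * v.getD j 0).sum

/-- A word with integer parameters applied to an integer vector. -/
def applyW (D : ChevalleyDatum) (w : List (ℕ × ℤ)) (v : List ℤ) : List ℤ :=
  w.foldr (fun p u => applyX D p.1 p.2 u) v

theorem sum_idx {D : ChevalleyDatum} {β : Type*} [AddCommMonoid β] (f : ℕ → β) :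
    ∑ a : D.Idx, f (idxNat a) = ((List.range (D.rank + D.nroots)).map f).sum := by
  rw [Fintype.sum_sum_type, List.range_add, List.map_append, List.sum_append, List.map_map]
  have h : ∀ (n : ℕ) (g : ℕ → β), ∑ i : Fin n, g i = ((List.range n).map g).sum := fun n g => by
    rw [Fin.sum_univ_eq_sum_range, Finset.sum_eq_multiset_sum]
    rfl
  rw [← h, ← h]
  rfl

theorem mulVec_vecF {D : ChevalleyDatum} {F : Type*} [Field F] {r : ℕ} (hr : r < D.nroots) (t : ℤ)
    (v : List ℤ) : D.x F r (t : F) *ᵥ vecF D F v = vecF D F (applyX D r t v) := by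
  funext a
  simp only [vecF, applyX, Matrix.mulVec, dotProduct]
  rw [List.getD_eq_getElem?_getD, List.getElem?_map, List.getElem?_range (idxNat_lt a)]
  simp only [Option.map_some, Option.getD_some]
  rw [show ((((List.range (D.rank + D.nroots)).map fun j =>
      if v.getD j 0 = 0 then 0 else evalZ (pTerms D r (idxNat a) j) t * v.getD j 0).sum : ℤ) : F) =
      ((List.range (D.rank + D.nroots)).map fun j =>
        evalT (pTerms D r (idxNat a) j) (t : F) * ((v.getD j 0 : ℤ) : F)).sum by
    rw [Int.cast_list_sum, List.map_map]
    refine congrArg List.sum (List.map_congr_left fun j _ => ?_)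
    simp only [Function.comp]
    split_ifs with h
    · rw [h]; simp
    · rw [Int.cast_mul, cast_evalZ]]
  rw [← sum_idx]
  exact Finset.sum_congr rfl fun b _ => by rw [x_apply hr]

theorem wordMat_vecF {D : ChevalleyDatum} {F : Type*} [Field F] (w : List (ℕ × ℤ))
    (hw : ∀ p ∈ w, p.1 < D.nroots) (v : List ℤ) :
    D.wordMat F (w.map fun p => (p.1, (p.2 : F))) *ᵥ vecF D F v = vecF D F (applyW D w v) := by
  induction w with
  | nil => simp [ChevalleyDatum.wordMat, applyW]
  | cons p w ih =>
    have ih' := ih fun q hq => hw q (List.mem_cons_of_mem _ hq)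
    simp only [ChevalleyDatum.wordMat, List.map_cons, List.prod_cons, applyW, List.foldr_cons]
      at ih' ⊢
    rw [← Matrix.mulVec_mulVec, ih', mulVec_vecF (hw p List.mem_cons_self)]

/-- The integer basis vector at a position. -/
def unitZ (D : ChevalleyDatum) (j : ℕ) : List ℤ :=
  (List.range (D.rank + D.nroots)).map fun i => if i = j then 1 else 0

theorem wordMat_apply {D : ChevalleyDatum} {F : Type*} [Field F] (w : List (ℕ × ℤ))
    (hw : ∀ p ∈ w, p.1 < D.nroots) (a b : D.Idx) :
    D.wordMat F (w.map fun p => (p.1, (p.2 : F))) a b =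
      (((applyW D w (unitZ D (idxNat b))).getD (idxNat a) 0 : ℤ) : F) := by
  have h : vecF D F (unitZ D (idxNat b)) = Pi.single b (1 : F) := by
    funext k
    simp only [vecF, unitZ, List.getD_eq_getElem?_getD, List.getElem?_map,
      List.getElem?_range (idxNat_lt k), Option.map_some, Option.getD_some, Pi.single_apply,
      idxNat_injective.eq_iff]
    split_ifs <;> simp
  have := congrFun (wordMat_vecF (F := F) w hw (unitZ D (idxNat b))) a
  rw [h, Matrix.mulVec_single_one] at this
  exact this

end Cfsg.Agent.Twisted
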